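import Groth.Agent.FormalB.OpenMV
import Groth.Agent.CohqA.SheafHLocal

/-!
# Iterated Mayer-Vietoris connecting maps for a closed point cut out by one or two equations
-/

set_option autoImplicit false
universe u
open CategoryTheory Limits TopologicalSpace Opposite

noncomputable section

namespace K995.ResDelta

open Groth.Agent.CohqA Groth.Agent.FormalB.OpenMV

variable {X : TopCat.{u}}

/-- the map from sections over `C` to the cohomology of degree one over `W` -/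
def d1 (F : CohTop.Ab X) {A B C W : Opens X} (h₄ : W = A ⊔ B) (h₁ : C = A ⊓ B) :
    F.obj.obj (op C) →+ HO F 1 W :=
  (δ F h₄ h₁ 0).comp (SheafH.H0 F C).symm.toAddMonoidHom

theorem d1_apply (F : CohTop.Ab X) {A B C W : Opens X} (h₄ : W = A ⊔ B) (h₁ : C = A ⊓ B)
    (s : F.obj.obj (op C)) : d1 F h₄ h₁ s = δ F h₄ h₁ 0 ((SheafH.H0 F C).symm s) := rfl

theorem mp_d1 {F G : CohTop.Ab X} (φ : F ⟶ G) {A B C W : Opens X} (h₄ : W = A ⊔ B) (h₁ : C = A ⊓ B)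
    (s : F.obj.obj (op C)) :
    mp φ 1 W (d1 F h₄ h₁ s) = d1 G h₄ h₁ ((φ.hom.app (op C)).hom s) := by
  rw [d1_apply, d1_apply, mp_δ]
  congr 1
  apply (SheafH.H0 G C).injective
  rw [SheafH.H0_map, AddEquiv.apply_symm_apply, AddEquiv.apply_symm_apply]

theorem d1_surjective (F : CohTop.Ab X) {A B C W : Opens X} (h₄ : W = A ⊔ B) (h₁ : C = A ⊓ B)
    (hA : ∀ x : HO F 1 A, x = 0) (hB : ∀ x : HO F 1 B, x = 0) :
    Function.Surjective (d1 F h₄ h₁) := by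
  intro x
  obtain ⟨z, hz⟩ := exists_of_rs_eq_zero F h₄ h₁ 0 (h₄ ▸ le_sup_left) (h₄ ▸ le_sup_right) x
    (hA _) (hB _)
  exact ⟨SheafH.H0 F C z, by rw [d1_apply, AddEquiv.symm_apply_apply, hz]⟩

theorem d1_left (F : CohTop.Ab X) {A B C W : Opens X} (h₄ : W = A ⊔ B) (h₁ : C = A ⊓ B)
    (hA : C ≤ A) (s : F.obj.obj (op A)) :
    d1 F h₄ h₁ ((F.obj.map (homOfLE hA).op).hom s) = 0 := by
  have h := δ_rs_sub F h₄ h₁ 0 hA (h₁ ▸ inf_le_right) ((SheafH.H0 F A).symm s) 0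
  rw [map_zero, sub_zero] at h
  rw [d1_apply, ← h]
  congr 1
  apply (SheafH.H0 F C).injective
  rw [SheafH.H0_res, AddEquiv.apply_symm_apply, AddEquiv.apply_symm_apply]

theorem d1_right (F : CohTop.Ab X) {A B C W : Opens X} (h₄ : W = A ⊔ B) (h₁ : C = A ⊓ B)
    (hB : C ≤ B) (s : F.obj.obj (op B)) :
    d1 F h₄ h₁ ((F.obj.map (homOfLE hB).op).hom s) = 0 := by
  have h := δ_rs_sub F h₄ h₁ 0 (h₁ ▸ inf_le_left) hB 0 (-(SheafH.H0 F B).symm s)
  have h2 : rs F 0 (h₁ ▸ inf_le_left : C ≤ A) 0 - rs F 0 hB (-(SheafH.H0 F B).symm s) =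
      rs F 0 hB ((SheafH.H0 F B).symm s) := by
    rw [map_zero, map_neg, zero_sub, neg_neg]
  rw [h2] at h
  rw [d1_apply, ← h]
  congr 1
  apply (SheafH.H0 F C).injective
  rw [SheafH.H0_res, AddEquiv.apply_symm_apply, AddEquiv.apply_symm_apply]

/-- Global version. -/
def toH (F : CohTop.Ab X) (n : ℕ) : HO F n ⊤ ≃+ Sheaf.H F n :=
  (SheafH.HEquivHU F n (isTerminalTop (α := Opens X))).symm

theorem toH_mp {F G : CohTop.Ab X} (φ : F ⟶ G) (n : ℕ) (x : HO F n ⊤) :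
    Sheaf.H.map φ n (toH F n x) = toH G n (mp φ n ⊤ x) := by
  apply (SheafH.HEquivHU G n (isTerminalTop (α := Opens X))).injective
  rw [SheafH.HEquivHU_map, toH, toH, AddEquiv.apply_symm_apply, AddEquiv.apply_symm_apply]

theorem exists_one {U W V : Opens X} (h₄ : ⊤ = U ⊔ W) (h₁ : V = U ⊓ W) :
    ∃ Δ : ∀ F : CohTop.Ab X, F.obj.obj (op V) →+ Sheaf.H F 1,
      (∀ (F G : CohTop.Ab X) (φ : F ⟶ G) (s : F.obj.obj (op V)),
        Sheaf.H.map φ 1 (Δ F s) = Δ G ((φ.hom.app (op V)).hom s)) ∧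
      (∀ F : CohTop.Ab X, (∀ x : HO F 1 U, x = 0) → (∀ x : HO F 1 W, x = 0) →
        Function.Surjective (Δ F)) ∧
      (∀ (F : CohTop.Ab X) (h : V ≤ U) (s : F.obj.obj (op U)),
        Δ F ((F.obj.map (homOfLE h).op).hom s) = 0) := by
  refine ⟨fun F => (toH F 1).toAddMonoidHom.comp (d1 F h₄ h₁), ?_, ?_, ?_⟩
  · intro F G φ s
    change Sheaf.H.map φ 1 (toH F 1 _) = toH G 1 _
    rw [toH_mp, mp_d1]
  · intro F hU hW
    exact (toH F 1).surjective.comp (d1_surjective F h₄ h₁ hU hW)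
  · intro F h s
    change toH F 1 (d1 F h₄ h₁ _) = 0
    rw [d1_left, map_zero]

theorem exists_two {U W V A B D : Opens X} (h₄ : ⊤ = U ⊔ W) (h₁ : V = U ⊓ W)
    (h₄' : V = A ⊔ B) (h₁' : D = A ⊓ B) :
    ∃ Δ : ∀ F : CohTop.Ab X, F.obj.obj (op D) →+ Sheaf.H F 2,
      (∀ (F G : CohTop.Ab X) (φ : F ⟶ G) (s : F.obj.obj (op D)),
        Sheaf.H.map φ 2 (Δ F s) = Δ G ((φ.hom.app (op D)).hom s)) ∧
      (∀ F : CohTop.Ab X, (∀ x : HO F 2 U, x = 0) → (∀ x : HO F 2 W, x = 0) →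
        (∀ x : HO F 1 A, x = 0) → (∀ x : HO F 1 B, x = 0) →
        Function.Surjective (Δ F)) ∧
      (∀ (F : CohTop.Ab X) (h : D ≤ A) (s : F.obj.obj (op A)),
        Δ F ((F.obj.map (homOfLE h).op).hom s) = 0) ∧
      (∀ (F : CohTop.Ab X) (h : D ≤ B) (s : F.obj.obj (op B)),
        Δ F ((F.obj.map (homOfLE h).op).hom s) = 0) := by
  refine ⟨fun F => (toH F 2).toAddMonoidHom.comp ((δ F h₄ h₁ 1).comp (d1 F h₄' h₁')), ?_, ?_, ?_, ?_⟩
  · intro F G φ s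
    change Sheaf.H.map φ 2 (toH F 2 _) = toH G 2 _
    rw [toH_mp, AddMonoidHom.comp_apply, mp_δ, mp_d1]
    rfl
  · intro F hU hW hA hB
    refine (toH F 2).surjective.comp ?_
    rw [AddMonoidHom.coe_comp]
    refine Function.Surjective.comp ?_ (d1_surjective F h₄' h₁' hA hB)
    intro x
    obtain ⟨z, hz⟩ := exists_of_rs_eq_zero F h₄ h₁ 1 (h₄ ▸ le_sup_left) (h₄ ▸ le_sup_right) x
      (hU _) (hW _)
    exact ⟨z, hz⟩
  · intro F h s
    change toH F 2 (δ F h₄ h₁ 1 (d1 F h₄' h₁' _)) = 0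
    rw [d1_left, map_zero, map_zero]
  · intro F h s
    change toH F 2 (δ F h₄ h₁ 1 (d1 F h₄' h₁' _)) = 0
    rw [d1_right, map_zero, map_zero]

end K995.ResDelta
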