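import Groth.Agent.EtCoh.K995.ResMap
import Groth.Agent.EtCoh.K995.ResDelta
import Groth.Agent.Localalg.LichtVan
import Groth.Agent.CohqA.AffineVanish
import Groth.Agent.CohqA.HOpen
import Groth.Agent.PerfA.QCohSerre
import Groth.Agent.Variety.K658.RelDimComp

/-!
# The residue map at a closed point of a smooth proper curve or surface (node Z for S18106)
-/

set_option autoImplicit false
universe u
open CategoryTheory CategoryTheory.Limits AlgebraicGeometry Opposite TopologicalSpace

noncomputable section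

namespace K995.ExistsZ

open Groth.Agent Groth.Agent.FormalB.OpenMV K995.ResMap K995.ResDelta
open Groth.Agent.CohqA.HOpen

variable {X : Scheme.{u}}

theorem HO_eq_zero_of_affine (L : X.Modules) (hL : Coh.IsQCoh L) (n : ℕ) {U : X.Opens}
    (hU : IsAffineOpen U) (x : HO (X := X.toTopCat) (Coh.toAb L) (n + 1) U) : x = 0 :=
  CohqA.AffineVanish.HU_eq_zero L n U hU x

/-- the top cohomology of the complement of a closed point vanishes -/
theorem HO_compl_eq_zero (k : Type u) [Field k] (f : X ⟶ Spec (.of k)) [IsIntegral X] [IsProper f]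
    (m : ℕ) (hm : m ≠ 0) [SmoothOfRelativeDimension m f] (L : X.Modules) (hL : Coh.IsQCoh L)
    (P : X) (W : X.Opens) (hW : (W : Set X) = {P}ᶜ)
    (x : HO (X := X.toTopCat) (Coh.toAb L) m W) : x = 0 := by
  have hdX : topologicalKrullDim X = m := K658.RelDimComp.topologicalKrullDim_eq m f
  have hPW : P ∉ W := by
    intro h
    have : P ∈ (W : Set X) := h
    rw [hW] at this
    exact this rfl
  have hne : Nonempty W := by
    by_contra hemp
    have hsub : Subsingleton X := ⟨fun a b => by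
      have key : ∀ c : X, c = P := by
        intro c
        by_contra hc
        exact hemp ⟨⟨c, by
          have : c ∈ (W : Set X) := by rw [hW]; exact hc
          exact this⟩⟩
      rw [key a, key b]⟩
    have h0 : topologicalKrullDim X ≤ 0 := by
      have : Subsingleton (IrreducibleCloseds X) := ⟨fun A B => by
        apply IrreducibleCloseds.ext
        obtain ⟨a, ha⟩ := A.isIrreducible.1
        obtain ⟨b, hb⟩ := B.isIrreducible.1
        ext y
        rw [Subsingleton.elim y a]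
        constructor
        · intro _; rw [Subsingleton.elim a b]; exact hb
        · intro _; exact ha⟩
      exact Order.krullDim_nonpos_of_subsingleton
    rw [hdX] at h0
    exact hm (by exact_mod_cast Nat.le_zero.1 (by exact_mod_cast h0))
  have : IsIntegral (W : Scheme.{u}) := inferInstance
  have hsm : SmoothOfRelativeDimension m (W.ι ≫ f) := by
    have h : SmoothOfRelativeDimension (0 + m) (W.ι ≫ f) := inferInstance
    rwa [zero_add] at h
  have hN : IsLocallyNoetherian X := LocallyOfFiniteType.isLocallyNoetherian f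
  have hdW : topologicalKrullDim (W : Scheme.{u}) = m :=
    K658.RelDimComp.topologicalKrullDim_eq m (W.ι ≫ f)
  have hnp : ¬ IsProper (W.ι ≫ f) := by
    intro h
    have h1 : IsProper W.ι := IsProper.of_comp W.ι f
    have h2 : IsClosed (Set.range W.ι) := W.ι.isClosedMap.isClosed_range
    have h3 : (Set.range W.ι) = (W : Set X) := by simp
    rw [h3] at h2
    have h4 : IsClopen (W : Set X) := ⟨h2, W.2⟩
    rcases isClopen_iff.1 h4 with h5 | h5
    · obtain ⟨w⟩ := hne
      have : W.ι w ∈ (W : Set X) := w.2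
      rw [h5] at this
      exact this
    · exact hPW (by
        have : P ∈ (W : Set X) := by rw [h5]; trivial
        exact this)
  have hv : Subsingleton (Coh.HH W (L.restrict W.ι) m) :=
    Localalg.LichtVan.vanishing (W.ι ≫ f) m hdW hnp _ (PerfA.QCohSerre.isQCoh_restrict W.ι hL)
  have hv' : Subsingleton (CohTop.HU (X := X.toTopCat) (Coh.toAb L) m W) :=
    (HHonEquiv L W m).toEquiv.subsingleton
  exact @Subsingleton.elim _ hv' x 0

/-- the points of `U` where all coordinates vanish -/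
theorem eq_point {ι : Type*} (P : X) (hP : IsClosed ({P} : Set X)) {U : X.Opens} (hU : IsAffineOpen U)
    (hPU : P ∈ U) (x : ι → Γ(X, U))
    (hx : Ideal.span (Set.range x) = (hU.primeIdealOf ⟨P, hPU⟩).asIdeal) (y : X) (hy : y ∈ U) :
    (∀ i, y ∉ X.basicOpen (x i)) ↔ y = P := by
  have hb : ∀ (y : X) (hy : y ∈ U) (t : Γ(X, U)),
      y ∉ X.basicOpen t ↔ t ∈ (hU.primeIdealOf ⟨y, hy⟩).asIdeal := by
    intro y hy t
    rw [Sga4h.H569.CurvePts.mem_primeIdealOf_iff, ← not_iff_not, not_not]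
    exact (Scheme.evaluation_ne_zero_iff_mem_basicOpen X y hy t).symm
  constructor
  · intro h
    have h1 : (hU.primeIdealOf ⟨P, hPU⟩).asIdeal ≤ (hU.primeIdealOf ⟨y, hy⟩).asIdeal := by
      rw [← hx, Ideal.span_le]
      rintro _ ⟨i, rfl⟩
      exact (hb y hy _).1 (h i)
    have hmax := hU.primeIdealOf_isMaximal_of_isClosed ⟨P, hPU⟩ hP
    have h2 := hmax.eq_of_le (hU.primeIdealOf ⟨y, hy⟩).isPrime.ne_top h1
    have h3 : hU.primeIdealOf ⟨P, hPU⟩ = hU.primeIdealOf ⟨y, hy⟩ := PrimeSpectrum.ext h2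
    have h4 := congrArg hU.fromSpec h3
    rw [hU.fromSpec_primeIdealOf, hU.fromSpec_primeIdealOf] at h4
    exact h4.symm
  · rintro rfl i
    rw [hb y hy, ← hx]
    exact Ideal.subset_span ⟨i, rfl⟩

section

variable {L : X.Modules}

theorem kill_one (m : ℕ) {U : X.Opens} (π : Γ(X, U)) (e : Γ(L, U))
    (Δ : Γ(L, X.basicOpen π) →+ Coh.HH X L m)
    (h0 : ∀ s : Γ(L, U), Δ (rm L (X.basicOpen_le π) s) = 0)
    (ν : Γ(X, X.basicOpen π)) (hν : rf X (X.basicOpen_le π) π * ν = 1) (c : Γ(X, U)) :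
    z0 m π e Δ ν (c * π) = 0 := by
  rw [z0_apply, map_mul, mul_assoc, hν, mul_one, ← rm_smul]
  exact h0 _

theorem kill_two (m : ℕ) {U : X.Opens} (π y w : Γ(X, U)) (hπ : π = y * w) (e : Γ(L, U))
    (hle : X.basicOpen π ≤ X.basicOpen w)
    (Δ : Γ(L, X.basicOpen π) →+ Coh.HH X L m)
    (h0 : ∀ s : Γ(L, X.basicOpen w), Δ (rm L hle s) = 0)
    (ν : Γ(X, X.basicOpen π)) (hν : rf X (X.basicOpen_le π) π * ν = 1) (c : Γ(X, U)) :
    z0 m π e Δ ν (c * y) = 0 := by
  obtain ⟨νB, hνB⟩ := exists_inv w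
  have h1 : rf X hle νB = rf X (X.basicOpen_le π) y * ν := by
    have h2 : rf X (X.basicOpen_le π) w * rf X hle νB = 1 := by
      have := congrArg (rf X hle) hνB
      rwa [map_mul, map_one, rf_rf] at this
    have h3 : rf X (X.basicOpen_le π) y * rf X (X.basicOpen_le π) w * ν = 1 := by
      rw [← map_mul, ← hπ]; exact hν
    calc rf X hle νB = 1 * rf X hle νB := by rw [one_mul]
      _ = rf X (X.basicOpen_le π) y * ν * (rf X (X.basicOpen_le π) w * rf X hle νB) := by
        rw [← h3]; ring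
      _ = _ := by rw [h2, mul_one]
  have h4 := h0 ((rf X (X.basicOpen_le w) c * νB) • rm L (X.basicOpen_le w) e)
  rw [rm_smul, map_mul, rf_rf, h1, rm_rm, ← mul_assoc, ← map_mul] at h4
  exact h4

end

theorem exists_z (k : Type u) [Field k] [Finite k] (p : ℕ) [Fact p.Prime] [CharP k p]
    (X : Scheme.{u}) (f : X ⟶ Spec (.of k)) [AlgebraicGeometry.IsIntegral X] [IsProper f]
    (m : ℕ) (hm : m = 1 ∨ m = 2) [SmoothOfRelativeDimension m f]
    (L : X.Modules) (hL : Coh.IsCoh L) (C : Coh.toAb L ⟶ Coh.toAb L)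
    (hC : ∀ (V : X.Opens) (a : Γ(X, V)) (s : Γ(L, V)), K611.ap C V (a ^ p • s) = a • K611.ap C V s)
    (hinj : Function.Injective (Sheaf.H.map C m)) (hne : Nontrivial (Coh.HH X L m))
    (P : X) (hP : IsClosed ({P} : Set X)) (U : X.Opens) (hU : IsAffineOpen U) (hPU : P ∈ U)
    (x : Fin m → Γ(X, U)) (hx : Ideal.span (Set.range x) = (hU.primeIdealOf ⟨P, hPU⟩).asIdeal)
    (e : Γ(L, U)) (he : ∀ (V : X.Opens) (i : V ⟶ U), IsAffineOpen V → ∀ s : Γ(L, V), ∃ a : Γ(X, V),
      s = a • L.presheaf.map i.op e)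
    (hCe : ∀ a : Γ(X, U), K611.ap C U ((a ^ p * (∏ i, x i) ^ (p - 1)) • e) = a • e) :
    ∃ z : X.residueField P →+ Coh.HH X L m, z ≠ 0 ∧
      (∀ (g : Γ(X, ⊤)) (c : X.residueField P),
        z (X.evaluation ⊤ P trivial g * c) = (show Coh.Γtop X from g) • z c) ∧
      (∀ c : X.residueField P, Sheaf.H.map C m (z (c ^ p)) = z c) := by
  have hp : 1 < p := (Fact.out : p.Prime).one_lt
  let W : X.Opens := ⟨{P}ᶜ, hP.isOpen_compl⟩
  have hWm : ∀ y : X, y ∈ W ↔ y ≠ P := fun y => Iff.rfl
  have h₄ : (⊤ : X.Opens) = U ⊔ W := by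
    symm
    rw [eq_top_iff]
    intro y _
    by_cases hy : y = P
    · exact Or.inl (hy ▸ hPU)
    · exact Or.inr hy
  have hpt := eq_point P hP hU hPU x hx
  have hm0 : m ≠ 0 := by rcases hm with rfl | rfl <;> decide
  have hW0 : ∀ z : HO (X := X.toTopCat) (Coh.toAb L) m W, z = 0 :=
    HO_compl_eq_zero k f m hm0 L hL.1 P W rfl
  obtain ⟨ν, hν⟩ := exists_inv (∏ i, x i)
  rcases hm with rfl | rfl
  · have h₁ : X.basicOpen (∏ i, x i) = U ⊓ W := by
      ext y
      constructor
      · intro hy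
        have hyU : y ∈ U := X.basicOpen_le _ hy
        refine ⟨hyU, ?_⟩
        rintro rfl
        refine ((hpt y hyU).2 rfl) 0 ?_
        simpa using hy
      · rintro ⟨hyU, hyW⟩
        by_contra hy
        refine hyW ((hpt y hyU).1 ?_)
        intro i hi
        apply hy
        obtain rfl : i = 0 := Subsingleton.elim _ _
        simpa using hi
    obtain ⟨Δ, hΔn, hΔs, hΔ0⟩ := exists_one (X := X.toTopCat) h₄ h₁
    refine K995.ResMap.exists_z p 1 hp C hC P hP hU hPU (∏ i, x i) e hCe (Δ (Coh.toAb L))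
      (fun φ s => hΔn _ _ φ s) ν hν he hinj hne
      (hΔs _ (HO_eq_zero_of_affine L hL.1 0 hU) hW0) ?_
    intro c hc
    rw [← hx] at hc
    have h2 : Set.range x = {∏ i, x i} := by
      ext t
      simp only [Set.mem_range, Set.mem_singleton_iff, Finset.univ_unique, Fin.default_eq_zero,
        Fin.isValue, Finset.prod_singleton]
      constructor
      · rintro ⟨i, rfl⟩
        rw [Subsingleton.elim i 0]
      · rintro rfl
        exact ⟨0, rfl⟩
    rw [h2, Ideal.mem_span_singleton'] at hc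
    obtain ⟨c', rfl⟩ := hc
    exact kill_one 1 _ e _ (fun s => hΔ0 (Coh.toAb L) _ s) ν hν c'
  · have hπ : ∏ i, x i = x 0 * x 1 := Fin.prod_univ_two x
    have h₁ : U ⊓ W = X.basicOpen (x 0) ⊔ X.basicOpen (x 1) := by
      ext y
      constructor
      · rintro ⟨hyU, hyW⟩
        by_contra hy
        refine hyW ((hpt y hyU).1 ?_)
        intro i hi
        apply hy
        rcases Fin.exists_fin_two.1 ⟨i, rfl⟩ with h | h
        · exact Or.inl (h ▸ hi)
        · exact Or.inr (h ▸ hi)
      · rintro (hy | hy)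
        · have hyU : y ∈ U := X.basicOpen_le _ hy
          refine ⟨hyU, ?_⟩
          rintro rfl
          exact ((hpt y hyU).2 rfl) 0 hy
        · have hyU : y ∈ U := X.basicOpen_le _ hy
          refine ⟨hyU, ?_⟩
          rintro rfl
          exact ((hpt y hyU).2 rfl) 1 hy
    have h₁' : X.basicOpen (∏ i, x i) = X.basicOpen (x 0) ⊓ X.basicOpen (x 1) := by
      rw [hπ, Scheme.basicOpen_mul]
    obtain ⟨Δ, hΔn, hΔs, hΔA, hΔB⟩ := exists_two (X := X.toTopCat) h₄ rfl h₁ h₁'
    refine K995.ResMap.exists_z p 2 hp C hC P hP hU hPU (∏ i, x i) e hCe (Δ (Coh.toAb L))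
      (fun φ s => hΔn _ _ φ s) ν hν he hinj hne
      (hΔs _ (HO_eq_zero_of_affine L hL.1 1 hU) hW0
        (HO_eq_zero_of_affine L hL.1 0 (hU.basicOpen _)) (HO_eq_zero_of_affine L hL.1 0 (hU.basicOpen _))) ?_
    intro c hc
    rw [← hx] at hc
    have h2 : Set.range x = {x 0, x 1} := by
      ext t
      simp only [Set.mem_range, Set.mem_insert_iff, Set.mem_singleton_iff, Fin.exists_fin_two]
      constructor
      · rintro (h | h)
        · exact Or.inl h.symm
        · exact Or.inr h.symm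
      · rintro (h | h)
        · exact Or.inl h.symm
        · exact Or.inr h.symm
    rw [h2, Ideal.mem_span_pair] at hc
    obtain ⟨a, b, rfl⟩ := hc
    rw [map_add, kill_two 2 (∏ i, x i) (x 0) (x 1) hπ e (h₁' ▸ inf_le_right) _
        (fun s => hΔB (Coh.toAb L) _ s) ν hν a,
      kill_two 2 (∏ i, x i) (x 1) (x 0) (by rw [hπ, mul_comm]) e (h₁' ▸ inf_le_left) _
        (fun s => hΔA (Coh.toAb L) _ s) ν hν b, add_zero]

end K995.ExistsZ
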