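import Mathlib.RingTheory.Trace.Basic
import Mathlib.RingTheory.Norm.Basic
import Mathlib.FieldTheory.Finite.Basic
import Mathlib.FieldTheory.Finite.Trace
import Mathlib.FieldTheory.Perfect
import Mathlib.LinearAlgebra.FiniteDimensional.Basic

/-! Frobenius-fixed functional on a line over a finite field (node D of helper611's plan for S18106). -/

set_option autoImplicit false

namespace K995.FinAlg

/-- If `u ∈ K` is a `(p-1)`-th power in `E`, and `[E:K]` is prime to `p-1`, it is one in `K`. -/
theorem exists_pow (m : ℕ) (K : Type*) [Field K] (E : Type*) [Field E] [Algebra K E]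
    [Module.Finite K E] (hn : (Module.finrank K E).Coprime m) (u : K) (w : E)
    (hw : w ^ m = algebraMap K E u) : ∃ s : K, s ^ m = u := by
  classical
  by_cases hu : u = 0
  · subst hu
    rcases Nat.eq_zero_or_pos m with rfl | hm
    · exfalso
      rw [pow_zero, map_zero] at hw
      exact one_ne_zero hw
    · exact ⟨0, zero_pow hm.ne'⟩
  · have h1 : (Algebra.norm K w) ^ m = u ^ (Module.finrank K E) := by
      rw [← map_pow, hw, Algebra.norm_algebraMap]
    have hw0 : Algebra.norm K w ≠ 0 ∨ m = 0 := by
      by_cases hm : m = 0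
      · exact Or.inr hm
      · left
        intro h
        rw [h, zero_pow hm] at h1
        exact pow_ne_zero _ hu h1.symm
    rcases hw0 with hw0 | hm
    · have hg := Nat.gcd_eq_gcd_ab (Module.finrank K E) m
      rw [hn.gcd_eq_one] at hg
      set α := Nat.gcdA (Module.finrank K E) m
      set β := Nat.gcdB (Module.finrank K E) m
      refine ⟨(Algebra.norm K w) ^ α * u ^ β, ?_⟩
      rw [mul_pow, ← zpow_natCast, ← zpow_natCast, ← zpow_mul, ← zpow_mul, mul_comm α, zpow_mul,
        zpow_natCast, h1, ← zpow_natCast, ← zpow_mul, ← zpow_add₀ hu]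
      have : (Module.finrank K E : ℤ) * α + β * (m : ℤ) = 1 := by
        rw [mul_comm β]; exact_mod_cast hg.symm
      rw [this, zpow_one]
    · subst hm
      have : Module.finrank K E = 1 := by simpa using hn
      rw [this, pow_zero, pow_one] at h1
      exact ⟨1, by rw [pow_zero, h1]⟩

theorem final_algebra (p : ℕ) [Fact p.Prime] (K : Type*) [Field K] [Finite K] [CharP K p]
    (V : Type*) [AddCommGroup V] [Module K V] (hV : Module.finrank K V = 1) (C : V ≃+ V)
    (hC : ∀ (a : K) (v : V), C (a ^ p • v) = a • C v)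
    (E : Type*) [Field E] [Finite E] [Algebra K E] (hn : (Module.finrank K E).Coprime (p - 1))
    (z : E →+ V) (hz : z ≠ 0) (hzl : ∀ (a : K) (c : E), z (algebraMap K E a * c) = a • z c)
    (hCz : ∀ c : E, C (z (c ^ p)) = z c) :
    ∃ t : V →+ ZMod p, t ≠ 0 ∧ ∀ v, t (C v) = t v := by
  classical
  have hp : p.Prime := Fact.out
  have : CharP E p := charP_of_injective_algebraMap (algebraMap K E).injective p
  have : Module.Finite K E := inferInstance
  obtain ⟨v0, hv0, hspan⟩ := finrank_eq_one_iff'.1 hV
  -- the coordinate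
  let B : V ≃ₗ[K] K := by
    refine (LinearEquiv.ofBijective ((LinearMap.id (R := K) (M := K)).smulRight v0) ⟨?_, ?_⟩).symm
    · intro a b h
      simp only [LinearMap.smulRight_apply, LinearMap.id_coe, id_eq] at h
      by_contra hne
      have : (a - b) • v0 = 0 := by rw [sub_smul, h, sub_self]
      rcases smul_eq_zero.1 this with h' | h'
      · exact hne (sub_eq_zero.1 h')
      · exact hv0 h'
    · intro w
      obtain ⟨c, hc⟩ := hspan w
      exact ⟨c, by simpa using hc⟩
  have hB : ∀ v, B v • v0 = v := by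
    intro v
    have := B.symm_apply_apply v
    exact this
  have hBa : ∀ a : K, B (a • v0) = a := by
    intro a
    have := B.apply_symm_apply a
    exact this
  -- C (u v0) = v0
  set u : K := B (C.symm v0) with hu_def
  have hu : u • v0 = C.symm v0 := hB _
  have hCu : C (u • v0) = v0 := by rw [hu]; exact C.apply_symm_apply v0
  have hCu' : ∀ a : K, C ((a ^ p * u) • v0) = a • v0 := by
    intro a; rw [mul_smul, hC, hCu]
  have hCsymm : ∀ a : K, C.symm (a • v0) = (a ^ p * u) • v0 := by
    intro a
    rw [← hCu' a, C.symm_apply_apply]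
  have hu0 : u ≠ 0 := by
    intro h
    rw [h, zero_smul, map_zero] at hCu
    exact hv0 hCu.symm
  -- the functional
  let g : E →ₗ[K] K :=
    { toFun := fun c => B (z c)
      map_add' := fun x y => by simp only [map_add]
      map_smul' := fun a c => by
        simp only [RingHom.id_apply]
        rw [Algebra.smul_def, hzl, map_smul] }
  have hg : ∀ c, g c • v0 = z c := fun c => hB _
  have hg0 : g ≠ 0 := by
    intro h
    apply hz
    ext c
    rw [← hg c, h]
    simp
  have hgp : ∀ c, g (c ^ p) = g c ^ p * u := by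
    intro c
    have h1 : z (c ^ p) = C.symm (z c) := by rw [← hCz c, C.symm_apply_apply]
    rw [← hg c, hCsymm, ← hg] at h1
    have := congrArg B h1
    rwa [hBa, hBa] at this
  -- trace form
  have hnd := traceForm_nondegenerate K E
  obtain ⟨b, hb⟩ : ∃ b : E, ∀ c, g c = Algebra.trace K E (b * c) := by
    refine ⟨((Algebra.traceForm K E).toDual hnd).symm g, fun c => ?_⟩
    have := LinearMap.BilinForm.apply_toDual_symm_apply (hB := hnd) g c
    rw [Algebra.traceForm_apply] at this
    exact this.symm
  have hb0 : b ≠ 0 := by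
    rintro rfl
    apply hg0
    ext c
    rw [hb]; simp
  have htr : ∀ c : E, Algebra.trace K E (c ^ p) = (Algebra.trace K E c) ^ p := by
    intro c
    have h := Algebra.trace_eq_of_equiv_equiv (frobeniusEquiv K p) (frobeniusEquiv E p)
      (by ext a; simp [frobenius_def]) c
    rw [h]
    simp [← frobenius_def]
  have hbu : b = algebraMap K E u * b ^ p := by
    have hkey : ∀ c : E, Algebra.trace K E ((b - algebraMap K E u * b ^ p) * c) = 0 := by
      intro c
      obtain ⟨c', rfl⟩ : ∃ c', c' ^ p = c := by
        obtain ⟨c', hc'⟩ := (frobeniusEquiv E p).surjective c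
        exact ⟨c', by simpa [frobenius_def] using hc'⟩
      have h1 := hgp c'
      rw [hb, hb, ← htr, mul_pow, mul_comm _ u] at h1
      have h2 : Algebra.trace K E (algebraMap K E u * b ^ p * c' ^ p) =
          u * Algebra.trace K E (b ^ p * c' ^ p) := by
        rw [mul_assoc, ← Algebra.smul_def, map_smul, smul_eq_mul]
      rw [sub_mul, map_sub, h1, h2, sub_self]
    have h2 : b - algebraMap K E u * b ^ p = 0 := by
      refine hnd.1 _ fun c => ?_
      rw [Algebra.traceForm_apply]
      exact hkey c
    exact sub_eq_zero.1 h2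
  obtain ⟨s, hs⟩ := exists_pow (p - 1) K E hn u b⁻¹ (by
    have h1 : b ^ p = b ^ (p - 1) * b := by
      rw [← pow_succ, Nat.sub_add_cancel hp.one_le]
    rw [h1, ← mul_assoc] at hbu
    have h2 : algebraMap K E u * b ^ (p - 1) = 1 := by
      have : (algebraMap K E u * b ^ (p - 1)) * b = 1 * b := by rw [one_mul]; exact hbu.symm
      exact mul_right_cancel₀ hb0 this
    rw [inv_pow]
    exact inv_eq_of_mul_eq_one_left h2)
  have hp1 : p - 1 ≠ 0 := by
    have := hp.two_le
    omega
  have hs0 : s ≠ 0 := by
    rintro rfl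
    rw [zero_pow hp1] at hs
    exact hu0 hs.symm
  -- the fixed vector
  have hfix : C (s⁻¹ • v0) = s⁻¹ • v0 := by
    have h1 := hCu' s⁻¹
    have h2 : (s⁻¹) ^ p * u = s⁻¹ := by
      rw [← hs]
      have : s ^ p = s ^ (p - 1) * s := by rw [← pow_succ, Nat.sub_add_cancel hp.one_le]
      rw [inv_pow, this]
      field_simp
    rwa [h2] at h1
  let _ : Algebra (ZMod p) K := ZMod.algebra K p
  have : Module.Finite (ZMod p) K := inferInstance
  have htr0 : Algebra.trace (ZMod p) K ≠ 0 := Algebra.trace_ne_zero (ZMod p) K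
  obtain ⟨a0, ha0⟩ : ∃ a0, Algebra.trace (ZMod p) K a0 ≠ 0 := by
    by_contra h
    push Not at h
    exact htr0 (LinearMap.ext h)
  have htrp : ∀ c : K, Algebra.trace (ZMod p) K (c ^ p) = Algebra.trace (ZMod p) K c := by
    intro c
    have h := Algebra.trace_eq_of_equiv_equiv (RingEquiv.refl (ZMod p)) (frobeniusEquiv K p)
      (Subsingleton.elim _ _) c
    rw [h]
    simp [← frobenius_def]
  -- rescaled coordinate
  have hBs : ∀ v, (B v * s) • (s⁻¹ • v0) = v := by
    intro v
    rw [smul_smul, mul_assoc, mul_inv_cancel₀ hs0, mul_one, hB]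
  refine ⟨AddMonoidHom.mk' (fun v => Algebra.trace (ZMod p) K (B v * s)) (fun x y => by
    rw [map_add, add_mul, map_add]), ?_, fun v => ?_⟩
  · intro h
    have h1 := DFunLike.congr_fun h (a0 • (s⁻¹ • v0))
    simp only [AddMonoidHom.mk'_apply, AddMonoidHom.zero_apply] at h1
    rw [smul_smul, hBa, mul_assoc, inv_mul_cancel₀ hs0, mul_one] at h1
    exact ha0 h1
  · simp only [AddMonoidHom.mk'_apply]
    obtain ⟨b', hb'⟩ := (frobeniusEquiv K p).surjective (B v * s)
    have hb'' : b' ^ p = B v * s := by simpa [frobenius_def] using hb'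
    have h1 : C v = b' • (s⁻¹ • v0) := by
      rw [← hBs v, ← hb'', hC, hfix]
    rw [h1, smul_smul, hBa, mul_assoc, inv_mul_cancel₀ hs0, mul_one, ← hb'', htrp]

end K995.FinAlg
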