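import Groth.Agent.EtCoh.K611.Ap
import Groth.Agent.Sga4h.H569.CurvePts
import Mathlib.AlgebraicGeometry.AffineScheme

/-!
# The residue map at a closed point from a connecting map (node Z of helper611's plan for S18106)
-/

set_option autoImplicit false
universe u
open CategoryTheory AlgebraicGeometry Opposite

noncomputable section

namespace K995.ResMap

open Groth.Agent.Sga4h.H569.CurvePts

variable {X : Scheme.{u}} {L : X.Modules}

/-- restriction of functions -/
def rf (X : Scheme.{u}) {V U : X.Opens} (h : V ≤ U) : Γ(X, U) →+* Γ(X, V) :=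
  (X.presheaf.map (homOfLE h).op).hom

/-- restriction of sections of a module -/
def rm (L : X.Modules) {V U : X.Opens} (h : V ≤ U) : Γ(L, U) →+ Γ(L, V) :=
  (L.presheaf.map (homOfLE h).op).hom

theorem rm_smul {V U : X.Opens} (h : V ≤ U) (a : Γ(X, U)) (s : Γ(L, U)) :
    rm L h (a • s) = rf X h a • rm L h s :=
  Scheme.Modules.map_smul L (homOfLE h) a s

theorem ap_rm (C : Coh.toAb L ⟶ Coh.toAb L) {V U : X.Opens} (h : V ≤ U) (s : Γ(L, U)) :
    K611.ap C V (rm L h s) = rm L h (K611.ap C U s) :=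
  K611.ap_res C (homOfLE h) s

theorem rf_rf {W V U : X.Opens} (h : V ≤ U) (h' : W ≤ V) (a : Γ(X, U)) :
    rf X h' (rf X h a) = rf X (h'.trans h) a := by
  change (X.presheaf.map _ ≫ X.presheaf.map _).hom a = _
  rw [← Functor.map_comp]
  rfl

theorem rm_rm {W V U : X.Opens} (h : V ≤ U) (h' : W ≤ V) (s : Γ(L, U)) :
    rm L h' (rm L h s) = rm L (h'.trans h) s := by
  change (L.presheaf.map _ ≫ L.presheaf.map _).hom s = _
  rw [← Functor.map_comp]
  rfl

theorem smulAb_ap (g : Coh.Γtop X) (V : X.Opens) (s : Γ(L, V)) :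
    K611.ap (Coh.smulAb L g) V s = rf X (le_top (a := V)) (show Γ(X, ⊤) from g) • s := rfl

theorem exists_inv {U : X.Opens} (π : Γ(X, U)) :
    ∃ ν : Γ(X, X.basicOpen π), rf X (X.basicOpen_le π) π * ν = 1 := by
  obtain ⟨ν, hν⟩ := (RingedSpace.isUnit_res_basicOpen X.toRingedSpace π).exists_right_inv
  exact ⟨ν, hν⟩

theorem exists_num {U : X.Opens} (hU : IsAffineOpen U) (π : Γ(X, U)) (ν : Γ(X, X.basicOpen π))
    (hν : rf X (X.basicOpen_le π) π * ν = 1) (a : Γ(X, X.basicOpen π)) :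
    ∃ (c : Γ(X, U)) (n : ℕ), a = rf X (X.basicOpen_le π) c * ν ^ n := by
  have := hU.isLocalization_basicOpen π
  obtain ⟨n, c, hc⟩ := IsLocalization.Away.surj π a
  refine ⟨c, n, ?_⟩
  have h1 : a * rf X (X.basicOpen_le π) π ^ n = rf X (X.basicOpen_le π) c := hc
  rw [← h1, mul_assoc, ← mul_pow, hν, one_pow, mul_one]

section

variable (p m : ℕ) (hp : 1 < p)
    (C : Coh.toAb L ⟶ Coh.toAb L)
    (hC : ∀ (V : X.Opens) (a : Γ(X, V)) (s : Γ(L, V)), K611.ap C V (a ^ p • s) = a • K611.ap C V s)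
    (P : X) (hP : IsClosed ({P} : Set X)) {U : X.Opens} (hU : IsAffineOpen U) (hPU : P ∈ U)
    (π : Γ(X, U)) (e : Γ(L, U))
    (hCe : ∀ a : Γ(X, U), K611.ap C U ((a ^ p * π ^ (p - 1)) • e) = a • e)
    (Δ : Γ(L, X.basicOpen π) →+ Coh.HH X L m)
    (hΔn : ∀ (φ : Coh.toAb L ⟶ Coh.toAb L) (s : Γ(L, X.basicOpen π)),
      Sheaf.H.map φ m (Δ s) = Δ (K611.ap φ (X.basicOpen π) s))
    (ν : Γ(X, X.basicOpen π)) (hν : rf X (X.basicOpen_le π) π * ν = 1)

/-- the map on functions -/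
def z0 : Γ(X, U) →+ Coh.HH X L m :=
  Δ.comp (AddMonoidHom.mk' (fun c => (rf X (X.basicOpen_le π) c * ν) • rm L (X.basicOpen_le π) e)
    (fun a b => by rw [map_add, add_mul, add_smul]))

theorem z0_apply (c : Γ(X, U)) :
    z0 m π e Δ ν c = Δ ((rf X (X.basicOpen_le π) c * ν) • rm L (X.basicOpen_le π) e) := rfl

include hp hC hCe hΔn hν in
theorem C_z0 (c : Γ(X, U)) :
    Sheaf.H.map C m (z0 m π e Δ ν (c ^ p)) = z0 m π e Δ ν c := by
  have h1 : (rf X (X.basicOpen_le π) (c ^ p) * ν) • rm L (X.basicOpen_le π) e =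
      ν ^ p • rm L (X.basicOpen_le π) ((c ^ p * π ^ (p - 1)) • e) := by
    rw [rm_smul, smul_smul]
    congr 1
    have h2 : ν = ν ^ p * rf X (X.basicOpen_le π) π ^ (p - 1) := by
      conv_rhs => rw [show p = (p - 1) + 1 by omega]
      rw [pow_succ, Nat.add_sub_cancel]
      have : (rf X (X.basicOpen_le π) π * ν) ^ (p - 1) = 1 := by rw [hν, one_pow]
      rw [mul_pow] at this
      calc ν = 1 * ν := by rw [one_mul]
        _ = _ := by rw [← this]; ring
    rw [map_mul, map_pow, map_pow]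
    conv_lhs => rw [h2]
    ring
  rw [z0_apply, h1, hΔn, hC, ap_rm, hCe, rm_smul, smul_smul, z0_apply, mul_comm]

include hΔn in
theorem z0_smul (g : Γ(X, ⊤)) (c : Γ(X, U)) :
    z0 m π e Δ ν (rf X le_top g * c) = (show Coh.Γtop X from g) • z0 m π e Δ ν c := by
  change _ = Sheaf.H.map (Coh.smulAb L _) m _
  rw [z0_apply, z0_apply, hΔn, smulAb_ap, smul_smul, map_mul, rf_rf, mul_assoc]

include hC hΔn hν hU in
/-- if the residue map vanishes then so does the connecting map -/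
theorem Δ_eq_zero (hp : 1 < p) (he : ∀ (V : X.Opens) (i : V ⟶ U), IsAffineOpen V → ∀ s : Γ(L, V), ∃ a : Γ(X, V),
      s = a • L.presheaf.map i.op e)
    (hinj : Function.Injective (Sheaf.H.map C m))
    (h0 : ∀ c, z0 m π e Δ ν c = 0) (s : Γ(L, X.basicOpen π)) : Δ s = 0 := by
  have key : ∀ j : ℕ, ∀ c : Γ(X, U),
      Δ ((rf X (X.basicOpen_le π) c * ν ^ (p ^ j)) • rm L (X.basicOpen_le π) e) = 0 := by
    intro j
    induction j with
    | zero =>
      intro c
      rw [pow_zero, pow_one]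
      exact h0 c
    | succ j ih =>
      intro c
      apply hinj
      rw [map_zero]
      obtain ⟨c', hc'⟩ := he U (𝟙 U) hU (K611.ap C U (c • e))
      have hc'' : K611.ap C U (c • e) = c' • e := by
        rw [hc']
        congr 1
        simp
      rw [hΔn]
      have h1 : (rf X (X.basicOpen_le π) c * ν ^ (p ^ (j + 1))) • rm L (X.basicOpen_le π) e =
          (ν ^ (p ^ j)) ^ p • rm L (X.basicOpen_le π) (c • e) := by
        rw [rm_smul, smul_smul, ← pow_mul, pow_succ, mul_comm]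
      rw [h1, hC, ap_rm, hc'', rm_smul, smul_smul, mul_comm]
      exact ih c'
  obtain ⟨a, ha⟩ := he _ (homOfLE (X.basicOpen_le π)) (hU.basicOpen π) s
  obtain ⟨c, n, rfl⟩ := exists_num hU π ν hν a
  have hn : n ≤ p ^ n := (Nat.lt_pow_self hp).le
  have h2 : rf X (X.basicOpen_le π) c * ν ^ n =
      rf X (X.basicOpen_le π) (c * π ^ (p ^ n - n)) * ν ^ (p ^ n) := by
    have h3 : (rf X (X.basicOpen_le π) π * ν) ^ (p ^ n - n) = 1 := by rw [hν, one_pow]
    rw [mul_pow] at h3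
    have h4 : ν ^ (p ^ n) = ν ^ (p ^ n - n) * ν ^ n := by
      rw [← pow_add, Nat.sub_add_cancel hn]
    rw [h4, map_mul, map_pow]
    calc rf X (X.basicOpen_le π) c * ν ^ n = rf X (X.basicOpen_le π) c * 1 * ν ^ n := by rw [mul_one]
      _ = _ := by rw [← h3]; ring
  rw [ha, h2]
  exact key n _

include hp hC hP hCe hΔn hν hU in
theorem exists_z (he : ∀ (V : X.Opens) (i : V ⟶ U), IsAffineOpen V → ∀ s : Γ(L, V), ∃ a : Γ(X, V),
      s = a • L.presheaf.map i.op e)
    (hinj : Function.Injective (Sheaf.H.map C m)) (hne : Nontrivial (Coh.HH X L m))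
    (hΔs : Function.Surjective Δ)
    (hΔ0 : ∀ c ∈ (hU.primeIdealOf ⟨P, hPU⟩).asIdeal, z0 m π e Δ ν c = 0) :
    ∃ z : X.residueField P →+ Coh.HH X L m, z ≠ 0 ∧
      (∀ (g : Γ(X, ⊤)) (c : X.residueField P),
        z (X.evaluation ⊤ P trivial g * c) = (show Coh.Γtop X from g) • z c) ∧
      (∀ c : X.residueField P, Sheaf.H.map C m (z (c ^ p)) = z c) := by
  have hsurj : Function.Surjective (X.evaluation U P hPU).hom := evaluation_surjective hU P hPU hP
  have hker : (X.evaluation U P hPU).hom.toAddMonoidHom.ker ≤ (z0 m π e Δ ν).ker := by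
    intro c hc
    rw [AddMonoidHom.mem_ker] at hc ⊢
    exact hΔ0 c ((mem_primeIdealOf_iff hU P hPU c).2 hc)
  let z : X.residueField P →+ Coh.HH X L m :=
    AddMonoidHom.liftOfSurjective (X.evaluation U P hPU).hom.toAddMonoidHom hsurj
      ⟨z0 m π e Δ ν, hker⟩
  have hz : ∀ c : Γ(X, U), z ((X.evaluation U P hPU).hom c) = z0 m π e Δ ν c := by
    intro c
    exact AddMonoidHom.liftOfRightInverse_comp_apply _ _ _ ⟨z0 m π e Δ ν, hker⟩ c
  refine ⟨z, ?_, ?_, ?_⟩
  · intro hz0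
    have h0 : ∀ c, z0 m π e Δ ν c = 0 := by
      intro c
      rw [← hz, hz0]
      rfl
    have h1 := Δ_eq_zero p m C hC hU π e Δ hΔn ν hν hp he hinj h0
    obtain ⟨y, hy⟩ := exists_ne (0 : Coh.HH X L m)
    obtain ⟨s, rfl⟩ := hΔs y
    exact hy (h1 s)
  · intro g c
    obtain ⟨c, rfl⟩ := hsurj c
    have h1 : (X.evaluation ⊤ P trivial).hom g = (X.evaluation U P hPU).hom (rf X le_top g) := by
      have h3 : X.presheaf.map (homOfLE (le_top (a := U))).op ≫ X.evaluation U P hPU =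
          X.evaluation ⊤ P trivial := by
        rw [← Scheme.germ_residue, ← Scheme.germ_residue, TopCat.Presheaf.germ_res_assoc]
      rw [← h3]
      rfl
    change z ((X.evaluation ⊤ P trivial).hom g * _) = _
    rw [h1, ← map_mul, hz, hz]
    exact z0_smul m π e Δ hΔn ν g c
  · intro c
    obtain ⟨c, rfl⟩ := hsurj c
    rw [← map_pow, hz, hz]
    exact C_z0 p m hp C hC π e hCe Δ hΔn ν hν c

end

end K995.ResMap
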